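import Groth.Agent.S4101
import Groth.Prelude.Def_SGA3x

/-!
# Closed subschemes of finite flat covers have closed Weil restrictions
-/

set_option autoImplicit false
set_option linter.style.haveILetI false
set_option backward.isDefEq.respectTransparency false

universe u

open CategoryTheory CategoryTheory.Limits AlgebraicGeometry

noncomputable section

namespace Groth.Agent.PicSep22

/-- The global sections of a finite flat morphism of finite presentation of affine schemes form a projective module. -/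
theorem projective_appTop {A B : Scheme.{u}} [IsAffine A] [IsAffine B] (q : B ⟶ A) [IsFinite q] [Flat q]
    [LocallyOfFinitePresentation q] :
    @Module.Projective Γ(A, ⊤) _ Γ(B, ⊤) _ q.appTop.hom.toAlgebra.toModule := by
  algebraize [q.appTop.hom]
  have h1 : q.appTop.hom.Finite := ((HasAffineProperty.iff_of_isAffine (P := @IsFinite)).1 inferInstance).2
  have h2 : q.appTop.hom.Flat := HasRingHomProperty.appTop (P := @Flat) q inferInstance
  have h3 : q.appTop.hom.FinitePresentation := HasRingHomProperty.appTop (P := @LocallyOfFinitePresentation) q inferInstance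
  haveI : Module.Finite Γ(A, ⊤) Γ(B, ⊤) := h1
  haveI : Module.Flat Γ(A, ⊤) Γ(B, ⊤) := h2
  haveI : Algebra.FinitePresentation Γ(A, ⊤) Γ(B, ⊤) := h3
  haveI : Module.FinitePresentation Γ(A, ⊤) Γ(B, ⊤) :=
    Module.FinitePresentation.of_finite_of_finitePresentation _ _
  exact Module.Flat.projective_of_finitePresentation

/-- Finite locally free morphisms are essentially free. -/
theorem isEssentiallyFree_of_finite {T' T : Scheme.{u}} (h : T' ⟶ T) [IsFinite h] [Flat h]
    [LocallyOfFinitePresentation h] : SGA3x.IsEssentiallyFree h := by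
  intro s
  obtain ⟨U, hU, hsU, -⟩ := exists_isAffineOpen_mem_and_subset (X := T) (U := ⊤) (x := s) trivial
  haveI : IsAffine U := hU
  refine ⟨U, hsU, hU, U, inferInstance, 𝟙 _, inferInstance, inferInstance, fun x => ?_⟩
  haveI : IsAffine (pullback h (𝟙 _ ≫ U.ι)) := isAffine_of_isAffineHom (pullback.snd h (𝟙 _ ≫ U.ι))
  refine ⟨⊤, trivial, isAffineOpen_top _, ?_⟩
  haveI : IsAffine ((⊤ : (pullback h (𝟙 _ ≫ U.ι)).Opens) : Scheme.{u}) := isAffineOpen_top _
  haveI : IsIso (⊤ : (pullback h (𝟙 _ ≫ U.ι)).Opens).ι :=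
    inferInstanceAs (IsIso (Scheme.topIso (pullback h (𝟙 _ ≫ U.ι))).hom)
  haveI : IsFinite ((⊤ : (pullback h (𝟙 _ ≫ U.ι)).Opens).ι ≫ pullback.snd h (𝟙 _ ≫ U.ι)) :=
    (MorphismProperty.cancel_left_of_respectsIso @IsFinite _ _).2 inferInstance
  exact projective_appTop ((⊤ : (pullback h (𝟙 _ ≫ U.ι)).Opens).ι ≫ pullback.snd h (𝟙 _ ≫ U.ι))

/-- The closed subscheme of points whose preimage lies in a given closed subscheme. -/
theorem exists_weil {T' T Z : Scheme.{u}} (h : T' ⟶ T) [IsFinite h] [Flat h] [LocallyOfFinitePresentation h]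
    (i : Z ⟶ T') [IsClosedImmersion i] :
    ∃ (Q : Scheme.{u}) (q : Q ⟶ T), IsClosedImmersion q ∧
      ∀ (V : Scheme.{u}) (v : V ⟶ T), (∃ l : V ⟶ Q, l ≫ q = v) ↔
        ∃ z : pullback h v ⟶ Z, z ≫ i = pullback.fst h v := by
  obtain ⟨Q, q, hq, hQ, -⟩ := Groth.Agent.S4101.result T T' Z h (isEssentiallyFree_of_finite h) i
  exact ⟨Q, q, hq, fun V v => (hQ V v).trans (PureSmooth29.fac_iff_isIso h i v).symm⟩

end Groth.Agent.PicSep22

end
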