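import Groth.Agent.Lib.PicSep22.Main
import Groth.Agent.Lib.PicSep22.Weil
import Groth.Agent.Lib.Stein6.EtaleFactor
import Groth.Agent.Lib.Curve17.TrivFibre
import Groth.Agent.Lib.VB17.Setup
import Groth.Agent.S0388

/-!
# The Picard scheme of a proper smooth morphism is separated
-/

set_option autoImplicit false
set_option linter.style.haveILetI false
set_option backward.isDefEq.respectTransparency false

universe u

open CategoryTheory CategoryTheory.Limits AlgebraicGeometry

noncomputable section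

namespace Groth.Agent.PicSep22

/-- Proper smooth morphisms with geometrically connected fibres have geometrically integral fibres. -/
theorem geometricallyIntegral_of_smooth {X T : Scheme.{u}} (g : X ⟶ T) [IsProper g] [Smooth g]
    [GeometricallyConnected g] : GeometricallyIntegral g := by
  refine ⟨fun L _ x W p₁ p₂ hW => ?_⟩
  letI : W.Over (Spec (CommRingCat.of L)) := ⟨p₂⟩
  haveI : IsProper (W ↘ Spec (CommRingCat.of L)) := MorphismProperty.of_isPullback (P := @IsProper) hW inferInstance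
  haveI : Smooth (W ↘ Spec (CommRingCat.of L)) := MorphismProperty.of_isPullback (P := @Smooth) hW inferInstance
  haveI : GeometricallyConnected (W ↘ Spec (CommRingCat.of L)) :=
    MorphismProperty.of_isPullback (P := @GeometricallyConnected) hW inferInstance
  exact VB17.isIntegral_of_smooth (k := L) (X := W)

/-- Smoothness passes to the first factor when the second factor is étale. -/
theorem smooth_of_comp {X Z S : Scheme.{u}} (q : X ⟶ Z) (h : Z ⟶ S) [Etale h] [Smooth (q ≫ h)] : Smooth q := by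
  let γ : X ⟶ pullback (q ≫ h) h := pullback.lift (𝟙 X) q (by simp)
  haveI : Etale (γ ≫ pullback.fst (q ≫ h) h) := by rw [pullback.lift_fst]; infer_instance
  haveI : Etale γ := Etale.of_comp γ (pullback.fst (q ≫ h) h)
  rw [show q = γ ≫ pullback.snd (q ≫ h) h from (pullback.lift_snd _ _ _).symm]
  haveI : Smooth γ := inferInstance
  exact MorphismProperty.comp_mem @Smooth _ _ inferInstance inferInstance

/-- Étale coverings give coverings for the fppf topology. -/
theorem isRelPicK_of_isRelPic {X S : Scheme.{u}} {f : X ⟶ S} {P : Over S}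
    {φ : ∀ T : Over S, PicF.Cl (PicF.XT f T) → (T ⟶ P)} (hP : PicRel.IsRelPic f P φ) :
    AbDual.IsRelPicK Scheme.fppfPrecoverage f P φ := by
  have key : ∀ {T : Scheme.{u}} {ι : Type u} (U : ι → T.Etale), EtCoh.Covers U →
      Presieve.ofArrows (fun i => (U i).left) (fun i => (U i).hom) ∈ Scheme.fppfPrecoverage T := fun U hU =>
    PicDesc21.mem_fppf_iff.2 ⟨fun x => by obtain ⟨i, y, hy⟩ := hU x; exact ⟨i, y, hy⟩, fun i => by
      haveI : Etale (U i).hom := (U i).prop
      exact ⟨inferInstance, inferInstance⟩⟩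
  refine ⟨hP.natural, fun T g => ?_, fun T c c' hc hc' h => ?_⟩
  · obtain ⟨ι, U, hU, hc⟩ := hP.locallySurjective T g
    exact ⟨_, key U hU, fun _ _ ⟨i⟩ => hc i⟩
  · obtain ⟨ι, U, hU, hcc⟩ := hP.locallyInjective T c c' hc hc' h
    exact ⟨_, key U hU, fun _ _ ⟨i⟩ => hcc i⟩

variable {X S : Scheme.{u}} (f : X ⟶ S) [IsProper f] [Smooth f]
variable {P : Over S} {φ : ∀ T : Over S, PicF.Cl (PicF.XT f T) → (T ⟶ P)}
  (hP : AbDual.IsRelPicK Scheme.fppfPrecoverage f P φ)

include hP in
/-- The equaliser of two points coming from invertible classes is closed. -/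
theorem isClosedImmersion_equaliser_of_smooth (T : Over S) {c₁ c₂ : PicF.Cl (PicF.XT f T)}
    (h₁ : PicF.IsInvertibleCl c₁) (h₂ : PicF.IsInvertibleCl c₂) {Q : Scheme.{u}} (q : Q ⟶ T.left)
    (hq : AbDual.ovrHom T q ≫ φ T c₁ = AbDual.ovrHom T q ≫ φ T c₂)
    (huniv : ∀ {V : Scheme.{u}} (v : V ⟶ T.left), AbDual.ovrHom T v ≫ φ T c₁ = AbDual.ovrHom T v ≫ φ T c₂ →
      ∃ l : V ⟶ Q, l ≫ q = v) [Mono q] :
    IsClosedImmersion q := by
  letI : ∀ Y : Scheme.{u}, PicGrp.Law Y := fun Y => M2.law Y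
  let p := pullback.snd f T.hom
  haveI : GeometricallyReduced p := AbRigid.geometricallyReduced_of_smooth p
  obtain ⟨hfin, het⟩ := Stein6.isFinite_etale_fromNormalization p fun s =>
    haveI : Smooth (p.fiberToSpecResidueField s) := inferInstanceAs (Smooth (pullback.snd p (T.left.fromSpecResidueField s)))
    AbRigid.geometricallyReduced_of_smooth (p.fiberToSpecResidueField s)
  let h := p.fromNormalization
  let g := p.toNormalization
  haveI : IsFinite h := hfin
  haveI : Etale h := het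
  haveI : IsProper (g ≫ h) := by rw [p.toNormalization_fromNormalization]; infer_instance
  haveI : Smooth (g ≫ h) := by rw [p.toNormalization_fromNormalization]; infer_instance
  haveI : Smooth g := smooth_of_comp g h
  haveI : IsProper g := IsProper.of_comp g h
  haveI : GeometricallyConnected g := (Groth.Agent.S0388.result p).1
  haveI : GeometricallyIntegral g := geometricallyIntegral_of_smooth g
  let a₁ : PicLoc.PicSet (PicF.XT f T) := ⟨c₁, h₁⟩
  let a₂ : PicLoc.PicSet (PicF.XT f T) := ⟨c₂, h₂⟩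
  obtain ⟨E, hE, hd⟩ := PicGrp.exists_eq_cls (a₁ * a₂⁻¹)
  have hO : ∀ (V : Scheme.{u}) (v : V ⟶ p.normalization) (U : V.Opens), IsIso ((pullback.snd g v).app U) :=
    fun V v U => isIso_app _ U
  obtain ⟨Z, j, hj, hjfp, hZ⟩ := Groth.Agent.S1431.result g hO E (M2.isFinLocFree_of_isInvertible hE)
  haveI : IsClosedImmersion j := Groth.Agent.S7188.result g hO E hE j hZ
    fun K _ x => GeometricallyIntegral.isIntegral_of_subsingleton (pullback.snd g x)
  obtain ⟨Q₀, q₀, hq₀, hQ₀⟩ := exists_weil h j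
  haveI := hq₀
  have key : ∀ {V : Scheme.{u}} (v : V ⟶ T.left),
      ∃ e : pullback g (pullback.fst h v) ≅ PicF.XT f (AbDual.ovr T v),
        e.hom ≫ PicF.XTmap f (AbDual.ovrHom T v) = pullback.fst g (pullback.fst h v) ∧
        e.hom ≫ PicF.XTproj f (AbDual.ovr T v) = pullback.snd g (pullback.fst h v) ≫ pullback.snd h v :=
    fun {V} v => by
      have hsq : IsPullback (pullback.fst g (pullback.fst h v))
          (pullback.snd g (pullback.fst h v) ≫ pullback.snd h v) (g ≫ h) v :=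
        (IsPullback.of_hasPullback g (pullback.fst h v)).paste_vert (IsPullback.of_hasPullback h v)
      rw [p.toNormalization_fromNormalization] at hsq
      refine ⟨hsq.isoPullback ≪≫ pullbackLeftPullbackSndIso f T.hom v, ?_, ?_⟩
      · apply pullback.hom_ext
        · simp [PicF.XTmap, p]
        · simp [PicF.XTmap, p]
          exact hsq.w.symm
      · simp [PicF.XTproj, p]
  have fwd : ∀ {V : Scheme.{u}} (v : V ⟶ T.left), (∃ g' : V ⟶ Q₀, g' ≫ q₀ = v) →
      AbDual.ovrHom T v ≫ φ T c₁ = AbDual.ovrHom T v ≫ φ T c₂ := fun {V} v hv => by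
    obtain ⟨N, hN, ⟨i⟩⟩ := (hZ (pullback h v) (pullback.fst h v)).1 ((hQ₀ V v).1 hv)
    obtain ⟨e, he₁, he₂⟩ := key v
    have hN1 : PicF.IsInvertible N := isInvertible_of_pullback_iso (pullback.snd g (pullback.fst h v)) hN
      (PicLoc.isInvertible_pullback _ hE) i
    let π := e.inv ≫ pullback.snd g (pullback.fst h v)
    have hg : PicF.XTmap f (AbDual.ovrHom T v) = e.inv ≫ pullback.fst g (pullback.fst h v) := by
      rw [← he₁, e.inv_hom_id_assoc]
    have hb : PicGrp.pullHom (PicF.XTmap f (AbDual.ovrHom T v)) (M2.pullMul _) (a₁ * a₂⁻¹) =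
        PicGrp.pullHom π (M2.pullMul _) (PicGrp.cls N hN1) := by
      rw [hd]
      apply Subtype.ext
      show PicF.pullCl (PicF.XTmap f (AbDual.ovrHom T v)) (PicF.cl E) = PicF.pullCl π (PicF.cl N)
      rw [hg, ← PicDesc21.pullCl_pullCl, ← PicDesc21.pullCl_pullCl]
      exact congrArg _ (Quot.sound ⟨i.symm⟩)
    choose D hyD htriv using Curve17.exists_trivial_near_fibre (pullback.snd h v) N hN1
    refine AbDual21.hom_ext_cover (T := AbDual.ovr T v) (κ := ULift.{u+1} V) (u := fun k => (D k.down).ι)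
      (PicDesc21.mem_fppf_iff.2 ⟨fun x => ⟨⟨x⟩, ⟨x, hyD x⟩, rfl⟩, fun k => ⟨inferInstance, inferInstance⟩⟩)
      fun k => ?_
    let w := AbDual.ovrHom (AbDual.ovr T v) (D k.down).ι
    let m := PicF.XTmap f w
    rw [← hP.natural _ _ _ _ h₁, ← hP.natural _ _ _ _ h₂]
    show w ≫ φ (AbDual.ovr T v) _ = w ≫ φ (AbDual.ovr T v) _
    rw [← hP.natural _ _ _ _ (PicLoc.isInvertibleCl_pullCl _ h₁),
      ← hP.natural _ _ _ _ (PicLoc.isInvertibleCl_pullCl _ h₂)]
    refine congrArg (φ _) ?_
    let O := pullback.snd h v ⁻¹ᵁ D k.down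
    have hr : Set.range (m ≫ π) ⊆ Set.range O.ι := by
      rw [Scheme.Opens.range_ι]
      rintro _ ⟨x, rfl⟩
      show pullback.snd h v ((m ≫ π) x) ∈ D k.down
      rw [← Scheme.Hom.comp_apply, show (m ≫ π) ≫ pullback.snd h v =
        PicF.XTproj f (AbDual.ovr (AbDual.ovr T v) (D k.down).ι) ≫ (D k.down).ι by
          simp only [π, Category.assoc, ← he₂, e.inv_hom_id_assoc]
          exact RigDesc22.XTmap_proj f w]
      rw [Scheme.Hom.comp_apply]
      exact (PicF.XTproj f (AbDual.ovr (AbDual.ovr T v) (D k.down).ι) x).2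
    let r := IsOpenImmersion.lift O.ι (m ≫ π) hr
    have h1 : PicGrp.pullHom m (M2.pullMul _)
        (PicGrp.pullHom (PicF.XTmap f (AbDual.ovrHom T v)) (M2.pullMul _) (a₁ * a₂⁻¹)) = 1 := by
      rw [hb, ← PicGrp.pullHom_comp_apply m π (M2.pullMul _) (M2.pullMul _) (M2.pullMul _),
        PicGrp.pullHom_cls, PicGrp.cls_eq_one_iff, ← IsOpenImmersion.lift_fac O.ι (m ≫ π) hr]
      obtain ⟨ε⟩ := htriv k.down
      exact ⟨((Scheme.Modules.pullbackComp _ _).app N).symm ≪≫ (Scheme.Modules.pullback _).mapIso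
        (((Scheme.Modules.restrictFunctorIsoPullback _).app N).symm ≪≫ ε) ≪≫ Twist.pullbackUnitIso _⟩
    rw [map_mul, map_inv, map_mul, map_inv, mul_inv_eq_one] at h1
    exact congrArg Subtype.val h1
  have bwd : ∀ {V : Scheme.{u}} (v : V ⟶ T.left), AbDual.ovrHom T v ≫ φ T c₁ = AbDual.ovrHom T v ≫ φ T c₂ →
      IsIso (pullback.snd q₀ v) := fun {V} v hv => by
    rw [← hP.natural _ _ _ _ h₁, ← hP.natural _ _ _ _ h₂] at hv
    obtain ⟨R, hR, hR'⟩ := hP.locallyInjective _ _ _ (PicLoc.isInvertibleCl_pullCl _ h₁)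
      (PicLoc.isInvertibleCl_pullCl _ h₂) hv
    refine of_fppf_family (MorphismProperty.isomorphisms Scheme.{u}) (pullback.snd q₀ v) hR fun W w hw => ?_
    have hw' := hR' w hw
    simp only [PicDesc21.pullCl_pullCl, RigDesc22.XTmap_comp] at hw'
    let h' := w ≫ v
    let ι₀ : AbDual.ovr (AbDual.ovr T v) w ≅ AbDual.ovr T h' := Over.isoMk (Iso.refl _) (by simp [h'])
    have e0 : AbDual.ovrHom (AbDual.ovr T v) w ≫ AbDual.ovrHom T v = ι₀.hom ≫ AbDual.ovrHom T h' := by
      ext; simp [ι₀, h']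
    have hw2 : PicF.pullCl (PicF.XTmap f (AbDual.ovrHom T h')) c₁ =
        PicF.pullCl (PicF.XTmap f (AbDual.ovrHom T h')) c₂ := by
      have := congrArg (PicF.pullCl (PicF.XTmap f ι₀.inv)) hw'
      simpa only [PicDesc21.pullCl_pullCl, RigDesc22.XTmap_comp, e0, Iso.inv_hom_id_assoc] using this
    obtain ⟨e, he₁, -⟩ := key h'
    have htriv : Nonempty ((Scheme.Modules.pullback (pullback.fst g (pullback.fst h h'))).obj E ≅
        Coh.structureModule _) := by
      rw [← PicGrp.cls_eq_one_iff (PicLoc.isInvertible_pullback _ hE),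
        ← PicGrp.pullHom_cls (pullback.fst g (pullback.fst h h')) (M2.pullMul _) E hE, ← hd, map_mul, map_inv,
        mul_inv_eq_one]
      apply Subtype.ext
      rw [PicGrp.pullHom_apply_val, PicGrp.pullHom_apply_val, ← he₁, ← PicDesc21.pullCl_pullCl,
        ← PicDesc21.pullCl_pullCl]
      exact congrArg _ hw2
    obtain ⟨ψ⟩ := htriv
    obtain ⟨z, hz⟩ := (hQ₀ W h').2 ((hZ _ (pullback.fst h h')).2 ⟨_,
      M2.isFinLocFree_of_isInvertible (QAGen11.isInvertible_unit _), ⟨Twist.pullbackUnitIso _ ≪≫ ψ.symm⟩⟩)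
    haveI : IsSplitEpi (pullback.snd (pullback.snd q₀ v) w) :=
      ⟨⟨pullback.lift (pullback.lift z w hz) (𝟙 W) (by simp), pullback.lift_snd _ _ _⟩⟩
    show IsIso _
    exact isIso_of_mono_of_isSplitEpi _
  obtain ⟨l, hl⟩ := huniv q₀ (fwd q₀ ⟨𝟙 _, Category.id_comp _⟩)
  haveI := bwd q hq
  let l' : Q ⟶ Q₀ := inv (pullback.snd q₀ q) ≫ pullback.fst q₀ q
  have hl' : l' ≫ q₀ = q := by simp [l', pullback.condition]
  haveI : IsIso l' := ⟨l, by rw [← cancel_mono q, Category.assoc, hl, hl', Category.id_comp],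
    by rw [← cancel_mono q₀, Category.assoc, hl', hl, Category.id_comp]⟩
  rw [← hl']
  infer_instance

include hP in
/-- The Picard scheme of a proper smooth morphism is separated. -/
theorem isSeparated_of_smooth : IsSeparated P.hom := by
  let T₀ : Over S := Over.mk (pullback.fst P.hom P.hom ≫ P.hom)
  let p₁ : T₀ ⟶ P := Over.homMk (pullback.fst P.hom P.hom) rfl
  let p₂ : T₀ ⟶ P := Over.homMk (pullback.snd P.hom P.hom) pullback.condition.symm
  haveI : MorphismProperty.DescendsAlong (@IsClosedImmersion : MorphismProperty Scheme.{u})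
      (@Surjective ⊓ @Flat ⊓ @QuasiCompact) := FpqcDesc.descendsAlong_isClosedImmersion.{u}
  obtain ⟨R₁, hR₁, hR₁'⟩ := hP.locallySurjective T₀ p₁
  refine ⟨of_fppf_family @IsClosedImmersion (pullback.diagonal P.hom) hR₁ fun U u hu => ?_⟩
  obtain ⟨c₁, hc₁, hφ₁⟩ := hR₁' u hu
  obtain ⟨R₂, hR₂, hR₂'⟩ := hP.locallySurjective _ (AbDual.ovrHom T₀ u ≫ p₂)
  refine of_fppf_family @IsClosedImmersion _ hR₂ fun U' w hw => ?_
  obtain ⟨c₂, hc₂, hφ₂⟩ := hR₂' w hw
  let T : Over S := AbDual.ovr (AbDual.ovr T₀ u) w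
  let c₁' := PicF.pullCl (PicF.XTmap f (AbDual.ovrHom (AbDual.ovr T₀ u) w)) c₁
  have hφ₁' : φ T c₁' = AbDual.ovrHom _ w ≫ AbDual.ovrHom T₀ u ≫ p₁ := (hP.natural _ _ _ _ hc₁).trans (by rw [hφ₁])
  let q := pullback.snd (pullback.snd (pullback.diagonal P.hom) u) w
  refine isClosedImmersion_equaliser_of_smooth f hP T (c₁ := c₁') (c₂ := c₂) (PicLoc.isInvertibleCl_pullCl _ hc₁) hc₂
    q ?_ ?_
  · rw [hφ₁', hφ₂]
    apply Over.OverMorphism.ext
    simp [q, p₁, p₂, ← Category.assoc]
    have hc : pullback.snd (pullback.snd (pullback.diagonal P.hom) u) w ≫ w ≫ u =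
        pullback.fst _ w ≫ pullback.fst (pullback.diagonal P.hom) u ≫ pullback.diagonal P.hom := by
      rw [pullback.condition (f := pullback.diagonal P.hom) (g := u), pullback.condition_assoc]
    simp only [Category.assoc, reassoc_of% hc, pullback.diagonal_fst, pullback.diagonal_snd]
  · intro V v hv
    rw [hφ₁', hφ₂] at hv
    have hv' := congrArg CommaMorphism.left hv
    simp [p₁, p₂] at hv'
    refine ⟨pullback.lift (pullback.lift (v ≫ w ≫ u ≫ pullback.fst P.hom P.hom) (v ≫ w) ?_) v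
      (pullback.lift_snd _ _ _), pullback.lift_snd _ _ _⟩
    apply pullback.hom_ext <;> simp [hv']

end Groth.Agent.PicSep22

end
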