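import Groth.Agent.Lib.PicSep22.Family
import Groth.Agent.Lib.RigDesc22.RelPic
import Groth.Agent.Lib.AbDual21.Phi
import Groth.Agent.Lib.CubeField.Product
import Groth.Agent.Lib.RankLoc10.Triv
import Groth.Agent.Lib.TensorMod.Invertible
import Groth.Agent.Lib.QAGen11.Basic
import Groth.Agent.S1431
import Groth.Agent.S7188

/-!
# The relative Picard scheme is separated
-/

set_option autoImplicit false
set_option linter.style.haveILetI false
set_option backward.isDefEq.respectTransparency false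

universe u

open CategoryTheory CategoryTheory.Limits AlgebraicGeometry

noncomputable section

namespace Groth.Agent.PicSep22

variable {X S : Scheme.{u}} (f : X ⟶ S) [IsProper f] [Flat f] [LocallyOfFinitePresentation f] [GeometricallyIntegral f]

/-- The functions on a proper flat family with geometrically integral fibres are those of the base. -/
theorem isIso_app {X' T : Scheme.{u}} (p : X' ⟶ T) [IsProper p] [Flat p] [LocallyOfFinitePresentation p]
    [GeometricallyIntegral p] (U : T.Opens) : IsIso (p.app U) := by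
  haveI : IsProper (p ∣_ U) := MorphismProperty.of_isPullback (isPullback_morphismRestrict p U).flip ‹IsProper p›
  haveI : Flat (p ∣_ U) := MorphismProperty.of_isPullback (isPullback_morphismRestrict p U).flip ‹Flat p›
  haveI : LocallyOfFinitePresentation (p ∣_ U) :=
    MorphismProperty.of_isPullback (isPullback_morphismRestrict p U).flip ‹LocallyOfFinitePresentation p›
  haveI : GeometricallyIntegral (p ∣_ U) :=
    MorphismProperty.of_isPullback (isPullback_morphismRestrict p U).flip ‹GeometricallyIntegral p›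
  haveI := CubeField.geometricallyConnected_of_irreducible (p ∣_ U)
  have h := AbDual21.bijective_appTop (p ∣_ U)
  have h' : IsIso (p ∣_ U).appTop := (ConcreteCategory.isIso_iff_bijective _).2 h
  rw [morphismRestrict_appTop] at h'
  have h2 : IsIso (p.app (U.ι ''ᵁ ⊤)) := IsIso.of_isIso_comp_right _ (X'.presheaf.map (eqToHom
    (image_morphismRestrict_preimage p U ⊤)).op)
  rwa [Scheme.Opens.ι_image_top] at h2

/-- A finite locally free module which becomes invertible along a surjection is invertible. -/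
theorem isInvertible_of_pullback_iso {X' T : Scheme.{u}} (p : X' ⟶ T) [Surjective p] {N : T.Modules}
    (hN : FlatMod.IsFinLocFree N) {E : X'.Modules} (hE : PicF.IsInvertible E)
    (φ : (Scheme.Modules.pullback p).obj N ≅ E) : PicF.IsInvertible N := by
  refine (M2.isInvertible_iff_isFinLocFreeOfRank_one _).2 (RankLoc10.isFinLocFreeOfRank_of_rk hN fun t => ?_)
  obtain ⟨x, rfl⟩ := p.surjective t
  rw [← RankLoc10.rk_pullback hN p x, RankLoc10.rk_congr φ.symm (M2.isFinLocFree_of_isInvertible hE)]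
  obtain ⟨D, g, hD, hgen⟩ := ProjUP.exists_isGen_of_invertible hE x
  exact RankLoc10.rk_eq_of_isBas (P1Split.isBas_of_isGen hgen) hD

variable {P : Over S} {φ : ∀ T : Over S, PicF.Cl (PicF.XT f T) → (T ⟶ P)}
  (hP : AbDual.IsRelPicK Scheme.fppfPrecoverage f P φ)

include hP in
/-- The equaliser of two points coming from invertible classes is closed. -/
theorem isClosedImmersion_equaliser (T : Over S) {c₁ c₂ : PicF.Cl (PicF.XT f T)}
    (h₁ : PicF.IsInvertibleCl c₁) (h₂ : PicF.IsInvertibleCl c₂) {Q : Scheme.{u}} (q : Q ⟶ T.left)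
    (hq : AbDual.ovrHom T q ≫ φ T c₁ = AbDual.ovrHom T q ≫ φ T c₂)
    (huniv : ∀ {V : Scheme.{u}} (v : V ⟶ T.left), AbDual.ovrHom T v ≫ φ T c₁ = AbDual.ovrHom T v ≫ φ T c₂ →
      ∃ l : V ⟶ Q, l ≫ q = v) [Mono q] :
    IsClosedImmersion q := by
  letI : ∀ Y : Scheme.{u}, PicGrp.Law Y := fun Y => M2.law Y
  let p := pullback.snd f T.hom
  let a₁ : PicLoc.PicSet (PicF.XT f T) := ⟨c₁, h₁⟩
  let a₂ : PicLoc.PicSet (PicF.XT f T) := ⟨c₂, h₂⟩
  obtain ⟨E, hE, hd⟩ := PicGrp.exists_eq_cls (a₁ * a₂⁻¹)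
  have hO : ∀ (V : Scheme.{u}) (v : V ⟶ T.left) (U : V.Opens), IsIso ((pullback.snd p v).app U) :=
    fun V v U => isIso_app _ U
  obtain ⟨Z, j, hj, hjfp, hZ⟩ := Groth.Agent.S1431.result p hO E (M2.isFinLocFree_of_isInvertible hE)
  haveI : IsClosedImmersion j := Groth.Agent.S7188.result p hO E hE j hZ
    fun K _ x => GeometricallyIntegral.isIntegral_of_subsingleton (pullback.snd p x)
  -- the classes on the restriction to a scheme over the base
  have key : ∀ {V : Scheme.{u}} (v : V ⟶ T.left), ∃ e : pullback p v ≅ PicF.XT f (AbDual.ovr T v),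
      e.hom ≫ PicF.XTmap f (AbDual.ovrHom T v) = pullback.fst p v ∧
      e.hom ≫ PicF.XTproj f (AbDual.ovr T v) = pullback.snd p v := fun {V} v =>
    ⟨pullbackLeftPullbackSndIso f T.hom v, by apply pullback.hom_ext <;> simp [PicF.XTmap, p, pullback.condition],
      by simp [PicF.XTproj, p]⟩
  have fwd : ∀ {V : Scheme.{u}} (v : V ⟶ T.left), (∃ g' : V ⟶ Z, g' ≫ j = v) →
      AbDual.ovrHom T v ≫ φ T c₁ = AbDual.ovrHom T v ≫ φ T c₂ := fun {V} v hv => by
    obtain ⟨N, hN, ⟨i⟩⟩ := (hZ V v).1 hv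
    obtain ⟨e, he₁, he₂⟩ := key v
    have hN1 : PicF.IsInvertible N := isInvertible_of_pullback_iso (pullback.snd p v) hN
      (PicLoc.isInvertible_pullback _ hE) i
    let π := PicF.XTproj f (AbDual.ovr T v)
    let g := PicF.XTmap f (AbDual.ovrHom T v)
    have hb : PicGrp.pullHom g (M2.pullMul _) (a₁ * a₂⁻¹) =
        PicGrp.pullHom π (M2.pullMul _) (PicGrp.cls N hN1) := by
      have inj : ∀ a b : PicLoc.PicSet (PicF.XT f (AbDual.ovr T v)),
          PicGrp.pullHom e.hom (M2.pullMul _) a = PicGrp.pullHom e.hom (M2.pullMul _) b → a = b := fun a b hab => by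
        have h' := congrArg (PicGrp.pullHom e.inv (M2.pullMul _)) hab
        rwa [← PicGrp.pullHom_comp_apply e.inv e.hom (M2.pullMul _) (M2.pullMul _) (M2.pullMul _),
          ← PicGrp.pullHom_comp_apply e.inv e.hom (M2.pullMul _) (M2.pullMul _) (M2.pullMul _),
          Subtype.ext_iff, PicGrp.pullHom_apply_val, PicGrp.pullHom_apply_val, e.inv_hom_id,
          PicLoc.pullCl_id, PicLoc.pullCl_id, ← Subtype.ext_iff] at h'
      refine inj _ _ ?_
      rw [← PicGrp.pullHom_comp_apply e.hom g (M2.pullMul _) (M2.pullMul _) (M2.pullMul _),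
        ← PicGrp.pullHom_comp_apply e.hom π (M2.pullMul _) (M2.pullMul _) (M2.pullMul _), hd]
      apply Subtype.ext
      show PicF.pullCl (e.hom ≫ g) (PicF.cl E) = PicF.pullCl (e.hom ≫ π) (PicF.cl N)
      rw [he₁, he₂]
      exact Quot.sound ⟨i.symm⟩
    rw [map_mul, map_inv, mul_inv_eq_iff_eq_mul, mul_comm] at hb
    rw [← hP.natural _ _ _ _ h₁, ← hP.natural _ _ _ _ h₂]
    refine (congrArg (φ _) ((congrArg Subtype.val hb).trans ?_)).trans
      (RigDesc22.phi_twist f (RigDesc22.good_invertible f) hP.natural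
        (PicLoc.isInvertibleCl_pullCl g h₂) ⟨N, rfl, hN1⟩)
    rw [PicGrp.mul_val]
    rfl
  have bwd : ∀ {V : Scheme.{u}} (v : V ⟶ T.left), AbDual.ovrHom T v ≫ φ T c₁ = AbDual.ovrHom T v ≫ φ T c₂ →
      IsIso (pullback.snd j v) := fun {V} v hv => by
    rw [← hP.natural _ _ _ _ h₁, ← hP.natural _ _ _ _ h₂] at hv
    obtain ⟨R, hR, hR'⟩ := hP.locallyInjective _ _ _ (PicLoc.isInvertibleCl_pullCl _ h₁)
      (PicLoc.isInvertibleCl_pullCl _ h₂) hv
    refine of_fppf_family (MorphismProperty.isomorphisms Scheme.{u}) (pullback.snd j v) hR fun W w hw => ?_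
    have hw' := hR' w hw
    simp only [PicDesc21.pullCl_pullCl, RigDesc22.XTmap_comp] at hw'
    let h := w ≫ v
    let ι₀ : AbDual.ovr (AbDual.ovr T v) w ≅ AbDual.ovr T h := Over.isoMk (Iso.refl _) (by simp [h])
    have e0 : AbDual.ovrHom (AbDual.ovr T v) w ≫ AbDual.ovrHom T v = ι₀.hom ≫ AbDual.ovrHom T h := by
      ext; simp [ι₀, h]
    have hw2 : PicF.pullCl (PicF.XTmap f (AbDual.ovrHom T h)) c₁ = PicF.pullCl (PicF.XTmap f (AbDual.ovrHom T h)) c₂ := by
      have := congrArg (PicF.pullCl (PicF.XTmap f ι₀.inv)) hw'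
      simpa only [PicDesc21.pullCl_pullCl, RigDesc22.XTmap_comp, e0, Iso.inv_hom_id_assoc] using this
    obtain ⟨e, he₁, -⟩ := key h
    have htriv : Nonempty ((Scheme.Modules.pullback (pullback.fst p h)).obj E ≅ Coh.structureModule _) := by
      rw [← PicGrp.cls_eq_one_iff (PicLoc.isInvertible_pullback _ hE),
        ← PicGrp.pullHom_cls (pullback.fst p h) (M2.pullMul _) E hE, ← hd, map_mul, map_inv, mul_inv_eq_one]
      apply Subtype.ext
      rw [PicGrp.pullHom_apply_val, PicGrp.pullHom_apply_val, ← he₁, ← PicDesc21.pullCl_pullCl,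
        ← PicDesc21.pullCl_pullCl]
      exact congrArg _ hw2
    obtain ⟨ψ⟩ := htriv
    obtain ⟨z, hz⟩ := (hZ W h).2 ⟨_, M2.isFinLocFree_of_isInvertible (QAGen11.isInvertible_unit _),
      ⟨Twist.pullbackUnitIso _ ≪≫ ψ.symm⟩⟩
    haveI : IsSplitEpi (pullback.snd (pullback.snd j v) w) :=
      ⟨⟨pullback.lift (pullback.lift z w hz) (𝟙 W) (by simp), pullback.lift_snd _ _ _⟩⟩
    show IsIso _
    exact isIso_of_mono_of_isSplitEpi _
  obtain ⟨l, hl⟩ := huniv j (fwd j ⟨𝟙 _, Category.id_comp _⟩)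
  haveI := bwd q hq
  let l' : Q ⟶ Z := inv (pullback.snd j q) ≫ pullback.fst j q
  have hl' : l' ≫ j = q := by simp [l', pullback.condition]
  haveI : IsIso l' := ⟨l, by rw [← cancel_mono q, Category.assoc, hl, hl', Category.id_comp],
    by rw [← cancel_mono j, Category.assoc, hl', hl, Category.id_comp]⟩
  rw [← hl']
  infer_instance

include hP in
/-- The relative Picard scheme is separated. -/
theorem isSeparated : IsSeparated P.hom := by
  let D := pullback P.hom P.hom
  let T₀ : Over S := Over.mk (pullback.fst P.hom P.hom ≫ P.hom)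
  let p₁ : T₀ ⟶ P := Over.homMk (pullback.fst P.hom P.hom) rfl
  let p₂ : T₀ ⟶ P := Over.homMk (pullback.snd P.hom P.hom) pullback.condition.symm
  haveI : MorphismProperty.DescendsAlong (@IsClosedImmersion : MorphismProperty Scheme.{u}) (@Surjective ⊓ @Flat ⊓ @QuasiCompact) :=
    FpqcDesc.descendsAlong_isClosedImmersion.{u}
  obtain ⟨R₁, hR₁, hR₁'⟩ := hP.locallySurjective T₀ p₁
  refine ⟨of_fppf_family @IsClosedImmersion (pullback.diagonal P.hom) hR₁ fun U u hu => ?_⟩
  obtain ⟨c₁, hc₁, hφ₁⟩ := hR₁' u hu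
  obtain ⟨R₂, hR₂, hR₂'⟩ := hP.locallySurjective _ (AbDual.ovrHom T₀ u ≫ p₂)
  refine of_fppf_family @IsClosedImmersion _ hR₂ fun U' w hw => ?_
  obtain ⟨c₂, hc₂, hφ₂⟩ := hR₂' w hw
  let T : Over S := AbDual.ovr (AbDual.ovr T₀ u) w
  let c₁' := PicF.pullCl (PicF.XTmap f (AbDual.ovrHom (AbDual.ovr T₀ u) w)) c₁
  have hφ₁' : φ T c₁' = AbDual.ovrHom _ w ≫ AbDual.ovrHom T₀ u ≫ p₁ := (hP.natural _ _ _ _ hc₁).trans (by rw [hφ₁])
  let q := pullback.snd (pullback.snd (pullback.diagonal P.hom) u) w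
  refine isClosedImmersion_equaliser f hP T (c₁ := c₁') (c₂ := c₂) (PicLoc.isInvertibleCl_pullCl _ hc₁) hc₂ q ?_ ?_
  · rw [hφ₁', hφ₂]
    apply Over.OverMorphism.ext
    simp [q, p₁, p₂]
    have hc : pullback.snd (pullback.snd (pullback.diagonal P.hom) u) w ≫ w ≫ u =
        pullback.fst _ w ≫ pullback.fst (pullback.diagonal P.hom) u ≫ pullback.diagonal P.hom := by
      rw [pullback.condition (f := pullback.diagonal P.hom) (g := u), pullback.condition_assoc]
    simp only [reassoc_of% hc, pullback.diagonal_fst, pullback.diagonal_snd]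
  · intro V v hv
    rw [hφ₁', hφ₂] at hv
    have hv' := congrArg CommaMorphism.left hv
    simp [p₁, p₂] at hv'
    refine ⟨pullback.lift (pullback.lift (v ≫ w ≫ u ≫ pullback.fst P.hom P.hom) (v ≫ w) ?_) v (pullback.lift_snd _ _ _),
      pullback.lift_snd _ _ _⟩
    apply pullback.hom_ext <;> simp [hv']

end Groth.Agent.PicSep22

end
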