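import Groth.Agent.Lib.PicSep22.Smooth
import Groth.Agent.Lib.LimH13.DVRCrit
import Groth.Agent.Lib.WeilExt.Apply
import Groth.Agent.Lib.RegLoc.UFD
import Groth.Agent.Lib.RedDVR15.Alg
import Groth.Agent.S0234

/-!
# Discrete valuation rings and the Picard scheme of a proper smooth morphism
-/

set_option autoImplicit false
set_option linter.style.haveILetI false
set_option backward.isDefEq.respectTransparency false

universe u

open CategoryTheory CategoryTheory.Limits AlgebraicGeometry IsLocalRing

noncomputable section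

namespace Groth.Agent.PicSep22

/-- A discrete valuation ring extends along a finitely generated field extension. -/
theorem exists_dvr_comap {K L : Type u} [Field K] [Field L] (g : K →+* L) (hg : g.EssFiniteType)
    (A : ValuationSubring K) [IsDiscreteValuationRing A] :
    ∃ V : ValuationSubring L, IsDiscreteValuationRing V ∧ V.comap g = A := by
  have hess : (g.comp A.subtype).EssFiniteType := by
    refine RingHom.EssFiniteType.comp (f := A.subtype) ?_ hg
    haveI : Algebra.EssFiniteType A K := Algebra.EssFiniteType.of_isLocalization _ (nonZeroDivisors A)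
    exact this
  have hinj : Function.Injective (g.comp A.subtype) := fun a b hab => Subtype.ext (g.injective hab)
  obtain ⟨V, hV, hmem, hlt⟩ := DVRVal.exists_dvr A _ (g.comp A.subtype) hess (fun e => by
    rw [(RingHom.injective_iff_ker_eq_bot _).mp hinj] at e
    exact IsDiscreteValuationRing.not_a_field A e.symm)
  refine ⟨V, hV, le_antisymm (fun x hx => ?_) fun x hx => hmem ⟨x, hx⟩⟩
  by_contra hxA
  have hx0 : x ≠ 0 := fun e => hxA (e ▸ A.zero_mem)
  have hinv : x⁻¹ ∈ A := (A.mem_or_inv_mem x).resolve_left hxA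
  have hlt' := hlt ⟨x⁻¹, hinv⟩ (fun hu => hxA (by
    obtain ⟨q, hq⟩ := hu.exists_right_inv
    have e : x⁻¹ * (q : K) = 1 := congrArg Subtype.val hq
    have : (q : K) = x := by
      rw [eq_comm, ← inv_inj]; exact eq_inv_of_mul_eq_one_left e
    exact this ▸ q.2))
  have := mul_lt_one_of_lt_of_le hlt' ((V.valuation_le_one_iff (g x)).mpr hx)
  rw [← map_mul, RingHom.comp_apply] at this
  change V.valuation (g x⁻¹ * g x) < 1 at this
  rw [← map_mul g, inv_mul_cancel₀ hx0, map_one, map_one] at this
  exact lt_irrefl _ this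

variable {X S : Scheme.{u}} (f : X ⟶ S) [IsProper f] [Smooth f]
variable {P : Over S} {φ : ∀ T : Over S, PicF.Cl (PicF.XT f T) → (T ⟶ P)}
  (hP : AbDual.IsRelPicK Scheme.fppfPrecoverage f P φ)

include hP in
/-- A point coming from a class over the generic point of a discrete valuation ring extends. -/
theorem exists_lift_class (R : Type u) [CommRing R] [IsDomain R] [IsDiscreteValuationRing R]
    (L : Type u) [Field L] [Algebra R L] [IsFractionRing R L] (b : Spec (CommRingCat.of R) ⟶ S)
    {c : PicF.Cl (PicF.XT f (AbDual.ovr (Over.mk b) (Spec.map (CommRingCat.ofHom (algebraMap R L)))))}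
    (hc : PicF.IsInvertibleCl c) :
    ∃ gR : Over.mk b ⟶ P,
      AbDual.ovrHom (Over.mk b) (Spec.map (CommRingCat.ofHom (algebraMap R L))) ≫ gR = φ _ c := by
  obtain ⟨L₀, rfl, hL⟩ := hc
  let T : Over S := Over.mk b
  let u := Spec.map (CommRingCat.ofHom (algebraMap R L))
  obtain ⟨π, hπ⟩ := IsDiscreteValuationRing.exists_irreducible R
  haveI : IsLocalization.Away π (FractionRing R) := RedDVR15.isLocalization_away_uniformizer R hπ
  haveI : IsLocalization.Away π L := IsLocalization.isLocalization_of_algEquiv _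
    (FractionRing.algEquiv R L)
  haveI : IsOpenImmersion u := IsOpenImmersion.of_isLocalization π
  let g := PicF.XTmap f (AbDual.ovrHom T u)
  haveI : IsOpenImmersion g := MorphismProperty.pullbackMap (P := @IsOpenImmersion)
    (inferInstanceAs (IsOpenImmersion (𝟙 X))) (inferInstanceAs (IsOpenImmersion u)) (by simp) (by simp [T, u])
  haveI : IsLocallyNoetherian (PicF.XT f T) := LocallyOfFiniteType.isLocallyNoetherian (pullback.snd f b)
  obtain ⟨L', hL', ⟨e⟩⟩ := Groth.Agent.S0234.result (PicF.XT f T) g.opensRange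
    ((Scheme.Modules.pullback g.isoOpensRange.inv).obj L₀) (PicLoc.isInvertible_pullback _ hL) (fun x _ => by
      haveI := WeilExt.isRegularLocalRing_stalk_of_smooth (pullback.snd f b) x
      exact @RegLoc.ufd_of_isRegularLocalRing _ _ this)
  refine ⟨φ T (PicF.cl L'), ?_⟩
  rw [← hP.natural _ _ _ _ ⟨L', rfl, hL'⟩]
  refine congrArg (φ _) ?_
  show PicF.pullCl g (PicF.cl L') = PicF.cl L₀
  rw [← g.isoOpensRange_hom_ι, PicLoc.pullCl_comp]
  exact Quot.sound ⟨(Scheme.Modules.pullback _).mapIso
    (((Scheme.Modules.restrictFunctorIsoPullback _).app L').symm ≪≫ e) ≪≫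
    (Scheme.Modules.pullbackComp _ _).app L₀ ≪≫ (Scheme.Modules.pullbackCongr g.isoOpensRange.hom_inv_id).app L₀ ≪≫
    (Scheme.Modules.pullbackId _).app L₀⟩

include hP in
/-- Closed subschemes of finite type of the Picard scheme are universally closed over a locally Noetherian base. -/
theorem universallyClosed_of_closed [IsLocallyNoetherian S] {Z : Scheme.{u}} (i : Z ⟶ P.left) [IsClosedImmersion i]
    [LocallyOfFiniteType (i ≫ P.hom)] [QuasiCompact (i ≫ P.hom)] :
    UniversallyClosed (i ≫ P.hom) := by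
  haveI := isSeparated_of_smooth f hP
  refine LimH13.universallyClosed_of_dvr_generic (i ≫ P.hom) fun η _ A hA y hy => ?_
  haveI := hA
  let K := Z.residueField η
  let u := Spec.map (CommRingCat.ofHom A.subtype)
  let x := Z.fromSpecResidueField η ≫ i
  let gK : AbDual.ovr (Over.mk y) u ⟶ P := Over.homMk x (by simp [x, u, hy])
  obtain ⟨R₀, hR₀, hR₀'⟩ := hP.locallySurjective _ gK
  obtain ⟨κ, U, w, hw, hwR⟩ := RigDesc22.exists_family hR₀
  obtain ⟨hsurj, hflat⟩ := PicDesc21.mem_fppf_iff.1 hw
  obtain ⟨k, x₀, -⟩ := hsurj (closedPoint K)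
  haveI := (hflat k).2
  haveI : LocallyOfFiniteType (w k) := inferInstance
  haveI : JacobsonSpace (Spec (CommRingCat.of K)) := inferInstance
  haveI : JacobsonSpace (AbDual.ovr (Over.mk y) u).left :=
    inferInstanceAs (JacobsonSpace (Spec (CommRingCat.of K)))
  haveI : JacobsonSpace (U k) := LocallyOfFiniteType.jacobsonSpace (w k)
  obtain ⟨x₁, -, hx₁⟩ := nonempty_inter_closedPoints (X := U k) (Z := Set.univ) ⟨x₀, trivial⟩
    isClosed_univ.isLocallyClosed
  haveI : LocallyOfFiniteType ((U k).fromSpecResidueField x₁) := isClosed_singleton_iff_locallyOfFiniteType.1 hx₁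
  let L := (U k).residueField x₁
  obtain ⟨e, he⟩ := Spec.map_surjective ((U k).fromSpecResidueField x₁ ≫ w k)
  have hft : e.hom.EssFiniteType := by
    have : LocallyOfFiniteType (Spec.map e) := by rw [he]; infer_instance
    exact ((HasRingHomProperty.Spec_iff (P := @LocallyOfFiniteType)).1 this).essFiniteType
  obtain ⟨c, hc, hcφ⟩ := hR₀' (w k) (hwR k)
  obtain ⟨V, hV, hVA⟩ := exists_dvr_comap e.hom hft A
  haveI := hV
  subst hVA
  let ρ : V.comap e.hom →+* V :=
    (e.hom.comp (V.comap e.hom).subtype).codRestrict V.toSubring fun z => z.2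
  let b' : Spec (CommRingCat.of V) ⟶ S := Spec.map (CommRingCat.ofHom ρ) ≫ y
  let uL := Spec.map (CommRingCat.ofHom (algebraMap V L))
  have hsq : uL ≫ Spec.map (CommRingCat.ofHom ρ) = (U k).fromSpecResidueField x₁ ≫ w k ≫ u := by
    rw [← Category.assoc, ← he]
    show Spec.map _ ≫ Spec.map _ = Spec.map _ ≫ Spec.map _
    rw [← Spec.map_comp, ← Spec.map_comp]
    rfl
  let a : AbDual.ovr (Over.mk b') uL ⟶ AbDual.ovr (AbDual.ovr (Over.mk y) u) (w k) :=
    Over.homMk ((U k).fromSpecResidueField x₁) (by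
      simp only [AbDual.ovr, Over.mk_hom, b']
      rw [reassoc_of% hsq])
  obtain ⟨gR, hgR⟩ := exists_lift_class f hP V L b' (PicLoc.isInvertibleCl_pullCl (PicF.XTmap f a) hc)
  rw [hP.natural _ _ _ _ hc, hcφ] at hgR
  have hgR' := congrArg CommaMorphism.left hgR
  have hgen : uL ≫ gR.left = Spec.map e ≫ x := by
    rw [he]
    simpa [a, gK] using hgR'
  obtain ⟨l, ⟨hl₁, hl₂⟩, -⟩ := ValCritRes.existsUnique_descend e.hom V ρ (fun _ => rfl) gR.left x hgen
  have hly : l ≫ P.hom = y := by
    obtain ⟨l', -, huniq⟩ := ValCritRes.existsUnique_descend e.hom V ρ (fun _ => rfl) (gR.left ≫ P.hom) (x ≫ P.hom)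
      ((Category.assoc _ _ _).symm.trans ((congrArg (· ≫ P.hom) hgen).trans (Category.assoc _ _ _)))
    refine (huniq _ ⟨by rw [reassoc_of% hl₁], by rw [reassoc_of% hl₂]⟩).trans (huniq _ ⟨?_, ?_⟩).symm
    · rw [Over.w gR]; rfl
    · simp [x, ← hy]
  obtain ⟨lZ, hlZ⟩ := RedSepLib.exists_lift_of_range_subset l i (by
    rintro _ ⟨p, rfl⟩
    let g₀ : Spec (CommRingCat.of (V.comap e.hom)) := u (closedPoint K)
    have hcl : IsClosed (Set.range i) := i.isClosedEmbedding.isClosed_range
    have h1 : g₀ ⤳ p := by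
      refine (PrimeSpectrum.le_iff_specializes _ _).1 ?_
      intro z hz
      have : (V.comap e.hom).subtype z ∈ (closedPoint K).asIdeal := hz
      change (z : K) ∈ maximalIdeal K at this
      rw [maximalIdeal_eq_bot, Ideal.mem_bot] at this
      have : z = 0 := Subtype.ext this
      subst this; exact zero_mem _
    refine (h1.map l.continuous).mem_closed hcl ?_
    rw [← Scheme.Hom.comp_apply, hl₂]
    exact ⟨_, (Scheme.Hom.comp_apply _ _ _).symm⟩)
  refine ⟨lZ, ?_, by rw [reassoc_of% hlZ, hly]⟩
  rw [← cancel_mono i, Category.assoc, hlZ, hl₂]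

end Groth.Agent.PicSep22

end
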