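import Groth.Agent.Lib.RigDesc22.Classes
import Groth.Agent.Lib.FpqcDesc.Basic

/-!
# Descent of properties of morphisms along fppf families
-/

set_option autoImplicit false
set_option linter.style.haveILetI false
set_option backward.isDefEq.respectTransparency false

universe u

open CategoryTheory CategoryTheory.Limits AlgebraicGeometry

noncomputable section

namespace Groth.Agent.PicSep22

variable (P : MorphismProperty Scheme.{u}) [IsZariskiLocalAtTarget P]
  [P.DescendsAlong (@Surjective ⊓ @Flat ⊓ @LocallyOfFinitePresentation)]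

/-- A property of a base change does not depend on how the morphism is written. -/
theorem prop_congr {X Y U : Scheme.{u}} (f : X ⟶ Y) {g g' : U ⟶ Y} (e : g = g') (h : P (pullback.snd f g)) :
    P (pullback.snd f g') := by
  subst e; exact h

/-- A property which is local on the target and descends along fppf morphisms descends along fppf families. -/
theorem of_fppf_family {X Y : Scheme.{u}} (f : X ⟶ Y) {R : Presieve Y} (hR : R ∈ Scheme.fppfPrecoverage Y)
    (h : ∀ ⦃U : Scheme.{u}⦄ (u : U ⟶ Y), R u → P (pullback.snd f u)) : P f := by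
  obtain ⟨κ, U, u, hu, huR⟩ := RigDesc22.exists_family hR
  obtain ⟨hsurj, hflat⟩ := PicDesc21.mem_fppf_iff.1 hu
  let q : ∐ U ⟶ Y := Sigma.desc u
  haveI : Surjective q := ⟨fun y => by
    obtain ⟨i, x, hx⟩ := hsurj y
    exact ⟨Sigma.ι U i x, by rw [← Scheme.Hom.comp_apply, Sigma.ι_desc]; exact hx⟩⟩
  haveI : Flat q := IsZariskiLocalAtSource.sigmaDesc (P := @Flat) fun i => (hflat i).1
  haveI : LocallyOfFinitePresentation q :=
    IsZariskiLocalAtSource.sigmaDesc (P := @LocallyOfFinitePresentation) fun i => (hflat i).2
  refine MorphismProperty.of_isPullback_of_descendsAlong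
    (Q := @Surjective ⊓ @Flat ⊓ @LocallyOfFinitePresentation)
    (IsPullback.of_hasPullback f q).flip ⟨⟨inferInstance, inferInstance⟩, inferInstance⟩ ?_
  refine (IsZariskiLocalAtTarget.iff_of_openCover (P := P) (sigmaOpenCover U)).2 fun i => ?_
  change P (pullback.snd (pullback.snd f q) (Sigma.ι U i))
  rw [← pullbackLeftPullbackSndIso_hom_snd f q (Sigma.ι U i), MorphismProperty.cancel_left_of_respectsIso P]
  exact prop_congr P f (Sigma.ι_desc u i).symm (h (u i) (huR i))

end Groth.Agent.PicSep22

end
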